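import Cfsg.Prelude.Def_PLocal
import Mathlib

/-!
Polynomial sequences in filtered groups and the Hall-Petrescu congruence
`(a * b) ^ q ≡ a ^ q * b ^ q` modulo `γ_p` and the `q`-th powers of `γ_2`.
-/

set_option autoImplicit false

namespace Cfsg.Agent.Regular.PolySeq

open scoped commutatorElement

variable {G : Type*} [Group G]

/-- The conditions on a filtration. -/
structure Filt (H : ℕ → Subgroup G) : Prop where
  anti : Antitone H
  comm : ∀ i j : ℕ, ⁅H i, H j⁆ ≤ H (i + j)

/-- The right difference of a sequence. -/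
def diff (f : ℕ → G) : ℕ → G := fun n => f (n + 1) * (f n)⁻¹

/-- Sequences whose differences up to order `k` respect the filtration from level `i`. -/
def Poly (H : ℕ → Subgroup G) : ℕ → ℕ → (ℕ → G) → Prop
  | 0, i, f => ∀ n, f n ∈ H i
  | k + 1, i, f => Poly H k i f ∧ Poly H k (i + 1) (diff f)

theorem poly_mono {H : ℕ → Subgroup G} (hH : Filt H) :
    ∀ {k i j : ℕ} {f : ℕ → G}, i ≤ j → Poly H k j f → Poly H k i f := by
  intro k
  induction k with
  | zero => exact fun h hf n => hH.anti h (hf n)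
  | succ k ih => exact fun h hf => ⟨ih h hf.1, ih (Nat.succ_le_succ h) hf.2⟩

/-- Polynomial sequences form groups, with the commutator property. -/
theorem poly_closed {H : ℕ → Subgroup G} (hH : Filt H) : ∀ k : ℕ,
    (∀ i, Poly H k i 1) ∧ (∀ i f g, Poly H k i f → Poly H k i g → Poly H k i (f * g)) ∧
    (∀ i f, Poly H k i f → Poly H k i f⁻¹) ∧
    ∀ i j f g, Poly H k i f → Poly H k j g → Poly H k (i + j) ⁅f, g⁆ := by
  intro k
  induction k with
  | zero =>
    exact ⟨fun i n => (H i).one_mem, fun i f g hf hg n => (H i).mul_mem (hf n) (hg n),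
      fun i f hf n => (H i).inv_mem (hf n),
      fun i j f g hf hg n => hH.comm i j (Subgroup.commutator_mem_commutator (hf n) (hg n))⟩
  | succ k ih =>
    obtain ⟨h1, hmul, hinv, hcomm⟩ := ih
    have hconj : ∀ i j w y, Poly H k i w → Poly H k j y → Poly H k j (w * y * w⁻¹) := by
      intro i j w y hw hy
      rw [show w * y * w⁻¹ = ⁅w, y⁆ * y by rw [commutatorElement_def]; group]
      exact hmul j _ _ (poly_mono hH (by omega) (hcomm i j w y hw hy)) hy
    refine ⟨fun i => ⟨h1 i, ?_⟩, ?_, ?_, ?_⟩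
    · rw [show diff (1 : ℕ → G) = 1 from funext fun n => by simp [diff]]
      exact h1 (i + 1)
    · rintro i f g ⟨hf, hu⟩ ⟨hg, hv⟩
      refine ⟨hmul i f g hf hg, ?_⟩
      rw [show diff (f * g) = diff f * (f * diff g * f⁻¹) from funext fun n => by
        simp only [diff, Pi.mul_apply, Pi.inv_apply]; group]
      exact hmul _ _ _ hu (hconj i _ f _ hf hv)
    · rintro i f ⟨hf, hu⟩
      refine ⟨hinv i f hf, ?_⟩
      rw [show diff f⁻¹ = f⁻¹ * (diff f)⁻¹ * f⁻¹⁻¹ from funext fun n => by
        simp only [diff, Pi.mul_apply, Pi.inv_apply]; group]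
      exact hconj i _ _ _ (hinv i f hf) (hinv _ _ hu)
    · rintro i j f g ⟨hf, hu⟩ ⟨hg, hv⟩
      refine ⟨hcomm i j f g hf hg, ?_⟩
      set u := diff f with hudef
      set v := diff g with hvdef
      set c := ⁅f, g⁆ with hc
      have hcm : Poly H k (i + j) c := hcomm i j f g hf hg
      -- `diff c = u ⁅f, v⁆ u⁻¹ * u ⁅v, c⁆ u⁻¹ * ⁅u, c⁆ * c ⁅u, v * g⁆ c⁻¹`
      have e : diff c = u * ⁅f, v⁆ * u⁻¹ * (u * ⁅v, c⁆ * u⁻¹) * ⁅u, c⁆ *
          (c * (⁅u, v⁆ * (v * ⁅u, g⁆ * v⁻¹)) * c⁻¹) := by
        funext n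
        simp only [diff, hudef, hvdef, hc, commutatorElement_def, Pi.mul_apply, Pi.inv_apply]
        group
      rw [e]
      refine hmul _ _ _ (hmul _ _ _ (hmul _ _ _ ?_ ?_) ?_) ?_
      · exact hconj (i + 1) _ _ _ hu (poly_mono hH (by omega) (hcomm i (j + 1) f v hf hv))
      · exact hconj (i + 1) _ _ _ hu (poly_mono hH (by omega) (hcomm (j + 1) (i + j) v c hv hcm))
      · exact poly_mono hH (by omega) (hcomm (i + 1) (i + j) u c hu hcm)
      · refine hconj (i + j) _ _ _ hcm (hmul _ _ _ ?_ ?_)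
        · exact poly_mono hH (by omega) (hcomm (i + 1) (j + 1) u v hu hv)
        · exact hconj (j + 1) _ _ _ hv (poly_mono hH (by omega) (hcomm (i + 1) j u g hu hg))

/-- Binomial powers are polynomial. -/
theorem poly_choose {H : ℕ → Subgroup G} (hH : Filt H) : ∀ (k i m : ℕ) (g : G), g ∈ H (i + m) →
    Poly H k i fun n => g ^ n.choose m := by
  intro k
  induction k with
  | zero => exact fun i m g hg n => (H i).pow_mem (hH.anti (by omega) hg) _
  | succ k ih =>
    intro i m g hg
    refine ⟨ih i m g hg, ?_⟩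
    rcases m with _ | m
    · rw [show diff (fun n => g ^ n.choose 0) = 1 from funext fun n => by simp [diff]]
      exact (poly_closed hH k).1 _
    · rw [show diff (fun n => g ^ n.choose (m + 1)) = fun n => g ^ n.choose m from funext fun n => by
        simp only [diff]
        rw [Nat.choose_succ_succ, pow_add, mul_inv_cancel_right]]
      exact ih (i + 1) m g (by rwa [show i + 1 + m = i + (m + 1) by omega])

/-- The first nontrivial value lies deep in the filtration. -/
theorem mem_of_vanish {H : ℕ → Subgroup G} (hH : Filt H) : ∀ (k i m : ℕ) (f : ℕ → G), Poly H k i f →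
    m ≤ k → (∀ n < m, f n = 1) → f m ∈ H (i + m) := by
  have h0 : ∀ (k i : ℕ) (f : ℕ → G), Poly H k i f → ∀ n, f n ∈ H i := by
    intro k
    induction k with
    | zero => exact fun i f hf => hf
    | succ k ih => exact fun i f hf => ih i f hf.1
  intro k
  induction k with
  | zero =>
    intro i m f hf hm _
    obtain rfl : m = 0 := by omega
    exact hf 0
  | succ k ih =>
    intro i m f hf hm hv
    rcases m with _ | m
    · exact h0 _ i f hf 0
    · have h1 := ih (i + 1) m (diff f) hf.2 (by omega) fun n hn => by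
        simp only [diff]
        rw [hv n (by omega), hv (n + 1) (by omega), inv_one, mul_one]
      simp only [diff] at h1
      rw [hv m (by omega), inv_one, mul_one, show i + 1 + m = i + (m + 1) by omega] at h1
      exact h1

/-- A polynomial sequence with values in a subgroup of exponent `q` vanishing at `0` vanishes at `q`. -/
theorem vanish_at {H : ℕ → Subgroup G} (hH : Filt H) {q N : ℕ} (hN : H N = ⊥) (hNq : N ≤ q)
    (hdiv : ∀ m, 1 ≤ m → m < N → q ∣ q.choose m) {K : Subgroup G} (hK : ∀ x ∈ K, x ^ q = 1)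
    (f : ℕ → G) (hf : ∀ k, Poly H k 0 f) (hf0 : f 0 = 1) (hfK : ∀ n, f n ∈ K) : f q = 1 := by
  suffices h : ∀ d m, 1 ≤ m → m + d = q + 1 → ∀ f : ℕ → G, (∀ k, Poly H k 0 f) →
      (∀ n < m, f n = 1) → (∀ n, f n ∈ K) → f q = 1 from
    h q 1 le_rfl (by omega) f hf (fun n hn => by rw [show n = 0 by omega]; exact hf0) hfK
  intro d
  induction d with
  | zero => exact fun m _ he f _ hv _ => hv q (by omega)
  | succ d ih =>
    intro m hm he f hf hv hfK
    by_cases hmN : N ≤ m
    · have hbot : ∀ n, f n = 1 := by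
        intro n
        induction n using Nat.strong_induction_on with
        | _ n ihn =>
          by_cases hn : n < m
          · exact hv n hn
          · have := hH.anti (show N ≤ 0 + n by omega) (mem_of_vanish hH n 0 n f (hf n) le_rfl ihn)
            rwa [hN, Subgroup.mem_bot] at this
      exact hbot q
    · have hg : f m ∈ H (0 + m) := mem_of_vanish hH m 0 m f (hf m) le_rfl hv
      let e : ℕ → G := fun n => f m ^ n.choose m
      have he' : ∀ k, Poly H k 0 (f * e⁻¹) := fun k =>
        (poly_closed hH k).2.1 0 _ _ (hf k) ((poly_closed hH k).2.2.1 0 _ (poly_choose hH k 0 m _ hg))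
      have h1 := ih (m + 1) (by omega) (by omega) (f * e⁻¹) he' (fun n hn => by
        rcases Nat.lt_or_ge n m with hn' | hn'
        · simp [e, hv n hn', Nat.choose_eq_zero_of_lt hn']
        · obtain rfl : n = m := by omega
          simp [e]) (fun n => K.mul_mem (hfK n) (K.inv_mem (K.pow_mem (hfK m) _)))
      obtain ⟨r, hr⟩ := hdiv m hm (by omega)
      simpa [e, hr, pow_mul, hK _ (hfK m)] using h1

/-- The lower central filtration, with `G` in levels `0` and `1`. -/
def lcsFilt (G : Type*) [Group G] (n : ℕ) : Subgroup G := (⊤ : Subgroup G).lowerCentralSeries (n - 1)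

theorem lcs_commutator_le : ∀ j i : ℕ, ⁅(⊤ : Subgroup G).lowerCentralSeries i, (⊤ : Subgroup G).lowerCentralSeries j⁆ ≤
    (⊤ : Subgroup G).lowerCentralSeries (i + j + 1) := by
  intro j
  induction j with
  | zero => intro i; rfl
  | succ j ih =>
    intro i
    set γ := (⊤ : Subgroup G).lowerCentralSeries
    have e : γ (j + 1) = ⁅γ j, (⊤ : Subgroup G)⁆ := rfl
    rw [e, Subgroup.commutator_comm (γ i)]
    set N := γ (i + (j + 1) + 1) with hN
    haveI : N.Normal := inferInstanceAs ((⊤ : Subgroup G).lowerCentralSeries _).Normal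
    set π := QuotientGroup.mk' N
    suffices h : (⁅⁅γ j, (⊤ : Subgroup G)⁆, γ i⁆).map π = ⊥ from fun x hx => by
      have h1 := Subgroup.mem_map_of_mem π hx
      rw [h, Subgroup.mem_bot] at h1
      exact (QuotientGroup.eq_one_iff x).1 h1
    have hbot : ∀ X : Subgroup G, X ≤ N → X.map π = ⊥ := fun X hX =>
      le_bot_iff.1 (by
        rintro _ ⟨x, hx, rfl⟩
        exact Subgroup.mem_bot.2 ((QuotientGroup.eq_one_iff x).2 (hX hx)))
    simp only [Subgroup.map_commutator]
    refine Subgroup.commutator_commutator_eq_bot_of_rotate ?_ ?_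
    · rw [← Subgroup.map_commutator, ← Subgroup.map_commutator]
      refine hbot _ ?_
      rw [Subgroup.commutator_comm (⊤ : Subgroup G) (γ i)]
      refine (ih (i + 1)).trans ?_
      rw [show i + 1 + j + 1 = i + (j + 1) + 1 by omega]
    · rw [← Subgroup.map_commutator, ← Subgroup.map_commutator]
      refine hbot _ ((Subgroup.commutator_mono (ih i) le_rfl).trans ?_)
      rw [hN, show i + (j + 1) + 1 = i + j + 1 + 1 by omega]
      rfl

theorem lcs_filt : Filt (lcsFilt G) where
  anti i j h := Subgroup.lowerCentralSeries_antitone _ (by omega)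
  comm i j := (lcs_commutator_le _ _).trans (Subgroup.lowerCentralSeries_antitone _ (by omega))

theorem dvd_choose_prime_pow {p : ℕ} (hp : p.Prime) (n : ℕ) {m : ℕ} (hm : 1 ≤ m) (hmp : m < p) :
    p ^ n ∣ (p ^ n).choose m := by
  obtain ⟨m, rfl⟩ : ∃ k, m = k + 1 := ⟨m - 1, by omega⟩
  have h := Nat.add_one_mul_choose_eq (p ^ n - 1) m
  rw [Nat.sub_add_cancel (Nat.one_le_pow _ _ hp.pos)] at h
  refine (Nat.Coprime.pow_left n ?_).dvd_of_dvd_mul_right ⟨_, h.symm⟩
  exact hp.coprime_iff_not_dvd.2 fun hd => absurd (Nat.le_of_dvd (by omega) hd) (by omega)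

/-- In a group of class less than `p` whose derived subgroup is killed by `p ^ n`, the `p ^ n`-th
power is multiplicative. -/
theorem mul_pow_eq {p n : ℕ} (hp : p.Prime) (hn : n ≠ 0)
    (hcl : (⊤ : Subgroup G).lowerCentralSeries (p - 1) = ⊥)
    (hexp : ∀ x ∈ commutator G, x ^ p ^ n = 1) (a b : G) :
    (a * b) ^ p ^ n = a ^ p ^ n * b ^ p ^ n := by
  set q := p ^ n with hq
  let f : ℕ → G := fun k => (a ^ k)⁻¹ * (a * b) ^ k * (b ^ k)⁻¹
  have hpow : ∀ (g : G) k, Poly (lcsFilt G) k 0 fun m => g ^ m := fun g k => by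
    simpa using poly_choose lcs_filt k 0 1 g (show g ∈ lcsFilt G 1 from Subgroup.mem_top g)
  have hf : ∀ k, Poly (lcsFilt G) k 0 f := fun k =>
    (poly_closed lcs_filt k).2.1 0 _ _ ((poly_closed lcs_filt k).2.1 0 _ _
      ((poly_closed lcs_filt k).2.2.1 0 _ (hpow a k)) (hpow (a * b) k))
      ((poly_closed lcs_filt k).2.2.1 0 _ (hpow b k))
  have hfK : ∀ k, f k ∈ commutator G := fun k => by
    rw [← Abelianization.ker_of, MonoidHom.mem_ker]
    simp only [f, map_mul, map_inv, map_pow]
    rw [(Commute.all (Abelianization.of a) (Abelianization.of b)).mul_pow]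
    group
  have h := vanish_at lcs_filt (q := q) (N := p) hcl (Nat.le_self_pow hn p)
    (fun m hm hm' => dvd_choose_prime_pow hp n hm hm') hexp f hf (by simp [f]) hfK
  have h1 : (a ^ q)⁻¹ * (a * b) ^ q * (b ^ q)⁻¹ = 1 := h
  rwa [mul_inv_eq_one, inv_mul_eq_iff_eq_mul] at h1

end Cfsg.Agent.Regular.PolySeq
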