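import Cfsg.Prelude
import Cfsg.Agent.Core.Frattini

/-!
Regular `p`-groups: Hall's theorems on `p ^ k`-th powers.
-/

set_option autoImplicit false

open Subgroup
open scoped commutatorElement

namespace Cfsg.Agent.Regular

variable {G : Type*} [Group G] {p : ℕ} [hp : Fact p.Prime]

omit hp in
theorem commutator_closure_le {S : Set G} {N : Subgroup G}
    (hN : closure S ≤ normalizer (N : Set G)) (h : ∀ s ∈ S, ∀ t ∈ S, ⁅s, t⁆ ∈ N) :
    ⁅closure S, closure S⁆ ≤ N := by
  have hc : ∀ g ∈ closure S, ∀ n ∈ N, g * n * g⁻¹ ∈ N := fun g hg n hn =>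
    (mem_normalizer_iff.mp (hN hg) n).mp hn
  have key : ∀ g ∈ closure S, (∀ s ∈ S, ⁅g, s⁆ ∈ N) → ∀ h' ∈ closure S, ⁅g, h'⁆ ∈ N := by
    intro g _ hgs h' hh'
    induction hh' using Subgroup.closure_induction with
    | mem x hx => exact hgs x hx
    | one => simp
    | mul a b ha _ iha ihb =>
      rw [show ⁅g, a * b⁆ = ⁅g, a⁆ * (a * ⁅g, b⁆ * a⁻¹) by simp only [commutatorElement_def]; group]
      exact mul_mem iha (hc a ha _ ihb)
    | inv a ha iha =>
      rw [show ⁅g, a⁻¹⁆ = a⁻¹ * ⁅g, a⁆⁻¹ * a⁻¹⁻¹ by simp only [commutatorElement_def]; group]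
      exact hc _ (inv_mem ha) _ (inv_mem iha)
  rw [commutator_le]
  intro g hg h' hh'
  refine key g hg (fun s hs => ?_) h' hh'
  rw [← commutatorElement_inv]
  exact inv_mem (key s (subset_closure hs) (h s hs) g hg)

variable [Finite G]

theorem commutator_lt (hG : IsPGroup p G) {H : Subgroup G} (hH : H ≠ ⊥) : ⁅H, H⁆ < H := by
  refine lt_of_le_of_ne (commutator_le.mpr fun a ha b hb => ?_) fun h => hH ?_
  · rw [commutatorElement_def]
    exact mul_mem (mul_mem (mul_mem ha hb) (inv_mem ha)) (inv_mem hb)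
  have := (hG.to_subgroup H).isNilpotent
  have h1 : commutator H = ⊤ := map_injective H.subtype_injective (by
    rw [map_subtype_commutator, h, ← MonoidHom.range_eq_map, range_subtype])
  have h2 : frattini H = ⊤ := top_le_iff.mp (h1 ▸ Core.commutator_le_frattini)
  have h3 := frattini_nongenerating (G := H) (K := ⊥) (by rw [h2, bot_sup_eq])
  exact (eq_bot_iff_forall H).mpr fun x hx => by
    have h4 : (⟨x, hx⟩ : H) ∈ (⊥ : Subgroup H) := h3 ▸ mem_top _
    exact congrArg Subtype.val (mem_bot.mp h4)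

theorem closure_conj_pair_ne {x y : G} (hG : IsPGroup p G) (hne : ⁅y, x⁆ ≠ 1) :
    closure ({x, y * x * y⁻¹} : Set G) < closure ({x, y} : Set G) := by
  set H := closure ({x, y} : Set G)
  have hx : x ∈ H := subset_closure (Set.mem_insert _ _)
  have hy : y ∈ H := subset_closure (Set.mem_insert_of_mem _ rfl)
  refine lt_of_le_of_ne ((closure_le H).mpr ?_) fun h => hne ?_
  · rintro z (rfl | rfl)
    · exact hx
    · exact mul_mem (mul_mem hy hx) (inv_mem hy)
  have hle : H ≤ zpowers x ⊔ ⁅H, H⁆ := by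
    refine h.ge.trans ((closure_le _).mpr ?_)
    rintro z (rfl | rfl)
    · exact mem_sup_left (mem_zpowers _)
    · rw [SetLike.mem_coe, show y * x * y⁻¹ = ⁅y, x⁆ * x by simp only [commutatorElement_def]; group]
      exact mul_mem (mem_sup_right (commutator_mem_commutator hy hx)) (mem_sup_left (mem_zpowers _))
  have := (hG.to_subgroup H).isNilpotent
  have h1 : zpowers (⟨x, hx⟩ : H) ⊔ frattini H = ⊤ := by
    refine top_le_iff.mp (le_trans ?_ (sup_le_sup_left Core.commutator_le_frattini _))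
    rw [← map_le_map_iff_of_injective H.subtype_injective, Subgroup.map_sup, MonoidHom.map_zpowers,
      map_subtype_commutator, ← MonoidHom.range_eq_map, range_subtype]
    exact hle
  have h2 := frattini_nongenerating h1
  obtain ⟨k, hk⟩ := mem_zpowers_iff.mp (h2 ▸ mem_top (⟨y, hy⟩ : H))
  have hk' : x ^ k = y := congrArg Subtype.val hk
  rw [commutatorElement_eq_one_iff_commute, ← hk']
  exact (Commute.refl x).zpow_left k

omit [Finite G] hp in
theorem pow_eq_one_of_closure {S : Set G} {q : ℕ}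
    (h2 : ∀ z ∈ closure S, ∀ w ∈ closure S, z ^ q = 1 → w ^ q = 1 → (z * w) ^ q = 1)
    (hS : ∀ s ∈ S, s ^ q = 1) {z : G} (hz : z ∈ closure S) : z ^ q = 1 := by
  induction hz using Subgroup.closure_induction with
  | mem s hs => exact hS s hs
  | one => exact one_pow q
  | mul a b ha hb iha ihb => exact h2 a ha b hb iha ihb
  | inv a _ iha => rw [inv_pow, iha, inv_one]

/-- If the commutator of the generators is killed by `p ^ k`, the `p ^ k`-th powers are multiplicative. -/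
theorem pow_mul_eq (hG : Cfsg.IsRegularPGroup p G) {x y : G} {k : ℕ}
    (hu : ⁅y, x⁆ ^ p ^ k = 1)
    (h2 : ∀ z ∈ ⁅closure ({x, y} : Set G), closure ({x, y} : Set G)⁆,
      ∀ w ∈ ⁅closure ({x, y} : Set G), closure ({x, y} : Set G)⁆,
        z ^ p ^ k = 1 → w ^ p ^ k = 1 → (z * w) ^ p ^ k = 1) :
    (x * y) ^ p ^ k = x ^ p ^ k * y ^ p ^ k := by
  obtain ⟨c, hc, h⟩ := hG.2 x y k
  set H := closure ({x, y} : Set G)
  set S : Set G := {z | ∃ g ∈ H, z = g * ⁅y, x⁆ * g⁻¹}
  have hx : x ∈ H := subset_closure (Set.mem_insert _ _)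
  have hy : y ∈ H := subset_closure (Set.mem_insert_of_mem _ rfl)
  have hSle : closure S ≤ ⁅H, H⁆ := by
    rw [closure_le]
    rintro _ ⟨g, hg, rfl⟩
    rw [SetLike.mem_coe, show g * ⁅y, x⁆ * g⁻¹ = ⁅g * y * g⁻¹, g * x * g⁻¹⁆ by
      simp only [commutatorElement_def]; group]
    exact commutator_mem_commutator (mul_mem (mul_mem hg hy) (inv_mem hg)) (mul_mem (mul_mem hg hx) (inv_mem hg))
  have hnorm : H ≤ normalizer (closure S : Set G) := by
    intro g hg
    rw [mem_normalizer_iff_map_conj_eq, MonoidHom.map_closure]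
    congr 1
    ext z
    constructor
    · rintro ⟨_, ⟨a, ha, rfl⟩, rfl⟩
      exact ⟨g * a, mul_mem hg ha, by simp [mul_assoc]⟩
    · rintro ⟨a, ha, rfl⟩
      exact ⟨g⁻¹ * a * ⁅y, x⁆ * (g⁻¹ * a)⁻¹, ⟨g⁻¹ * a, mul_mem (inv_mem hg) ha, rfl⟩, by simp [mul_assoc]⟩
  have hu' : ⁅y, x⁆ ∈ closure S := subset_closure ⟨1, one_mem _, by simp⟩
  have hle : ⁅H, H⁆ ≤ closure S := by
    refine commutator_closure_le hnorm ?_
    rintro s (rfl | rfl) t (rfl | rfl)
    · simp
    · rw [← commutatorElement_inv]; exact inv_mem hu'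
    · exact hu'
    · simp
  have hkill : ∀ z ∈ ⁅H, H⁆, z ^ p ^ k = 1 := fun z hz => by
    refine pow_eq_one_of_closure (fun a ha b hb => h2 a (hSle ha) b (hSle hb)) ?_ (hle hz)
    rintro _ ⟨g, _, rfl⟩
    rw [conj_pow, hu, mul_one, mul_inv_cancel]
  have hc1 : powerClosure p k ⁅H, H⁆ ≤ ⊥ := by
    rw [powerClosure, closure_le]
    rintro _ ⟨z, hz, rfl⟩
    exact hkill z hz
  rw [h, mem_bot.mp (hc1 hc), mul_one]

/-- The elements killed by `p ^ k` are closed under multiplication. -/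
theorem mul_pow_eq_one (hG : Cfsg.IsRegularPGroup p G) (k : ℕ) :
    ∀ x y : G, x ^ p ^ k = 1 → y ^ p ^ k = 1 → (x * y) ^ p ^ k = 1 := by
  suffices h : ∀ n, ∀ H : Subgroup G, Nat.card H = n → ∀ x ∈ H, ∀ y ∈ H,
      x ^ p ^ k = 1 → y ^ p ^ k = 1 → (x * y) ^ p ^ k = 1 from
    fun x y => h _ ⊤ rfl x (mem_top x) y (mem_top y)
  intro n
  induction n using Nat.strong_induction_on with
  | _ n IH =>
  intro H hn x hx y hy hxk hyk
  subst hn
  set H₀ := closure ({x, y} : Set G) with hH₀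
  have hle : H₀ ≤ H := (closure_le H).mpr (by rintro z (rfl | rfl) <;> assumption)
  have ih : ∀ K < H₀, ∀ a ∈ K, ∀ b ∈ K, a ^ p ^ k = 1 → b ^ p ^ k = 1 → (a * b) ^ p ^ k = 1 :=
    fun K hK => IH _ (lt_of_le_of_ne (card_le_of_le (hK.le.trans hle))
      fun e => (hK.trans_le hle).ne (eq_of_le_of_card_ge (hK.le.trans hle) e.ge)) K rfl
  have hu : ⁅y, x⁆ ^ p ^ k = 1 := by
    by_cases hne : ⁅y, x⁆ = 1
    · rw [hne, one_pow]
    · rw [commutatorElement_def]
      exact ih _ (closure_conj_pair_ne hG.1 hne) _ (subset_closure (Set.mem_insert_of_mem _ rfl)) _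
        (inv_mem (subset_closure (Set.mem_insert _ _))) (by rw [conj_pow, hxk, mul_one, mul_inv_cancel])
        (by rw [inv_pow, hxk, inv_one])
  rw [pow_mul_eq hG hu ?_, hxk, hyk, one_mul]
  rcases eq_or_ne H₀ ⊥ with h0 | h0
  · intro z hz w hw hz' hw'
    have hbot : ⁅H₀, H₀⁆ ≤ ⊥ := by rw [h0]; exact commutator_le_left ⊥ ⊥
    rw [mem_bot.mp (hbot hz), one_mul, hw']
  · exact ih _ (commutator_lt hG.1 h0)

/-- The elements killed by `p ^ k`. -/
def torsion (hG : Cfsg.IsRegularPGroup p G) (k : ℕ) : Subgroup G where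
  carrier := {x | x ^ p ^ k = 1}
  one_mem' := one_pow _
  mul_mem' := fun ha hb => mul_pow_eq_one hG k _ _ ha hb
  inv_mem' := fun {x} (hx : x ^ p ^ k = 1) => show x⁻¹ ^ p ^ k = 1 by rw [inv_pow, hx, inv_one]

/-- `a ^ q = b ^ q` exactly when `(a b⁻¹) ^ q = 1`. -/
theorem pow_eq_pow_iff (hG : Cfsg.IsRegularPGroup p G) (k : ℕ) (a b : G) :
    a ^ p ^ k = b ^ p ^ k ↔ (a * b⁻¹) ^ p ^ k = 1 := by
  suffices h : ∀ n, ∀ H : Subgroup G, Nat.card H = n → ∀ a ∈ H, ∀ b ∈ H,
      (a ^ p ^ k = b ^ p ^ k ↔ (a * b⁻¹) ^ p ^ k = 1) from h _ ⊤ rfl a (mem_top a) b (mem_top b)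
  intro n
  induction n using Nat.strong_induction_on with
  | _ n IH =>
  intro H hn a ha b hb
  subst hn
  have hT := mul_pow_eq_one hG k
  have hprod : ⁅b, a * b⁻¹⁆ ^ p ^ k = 1 → a ^ p ^ k = (a * b⁻¹) ^ p ^ k * b ^ p ^ k := fun hu => by
    have := pow_mul_eq hG hu fun z _ w _ => hT z w
    rwa [inv_mul_cancel_right] at this
  constructor
  · intro h
    have hu : ⁅b, a * b⁻¹⁆ ^ p ^ k = 1 := by
      rw [show ⁅b, a * b⁻¹⁆ = ⁅a, b⁆⁻¹ by simp only [commutatorElement_def]; group, inv_pow, inv_eq_one]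
      by_cases hne : ⁅a, b⁆ = 1
      · rw [hne, one_pow]
      set M := closure ({b, a * b * a⁻¹} : Set G)
      have hM : M < closure ({b, a} : Set G) := closure_conj_pair_ne hG.1 hne
      have hle : closure ({b, a} : Set G) ≤ H := (closure_le H).mpr (by rintro z (rfl | rfl) <;> assumption)
      rw [commutatorElement_def]
      refine ((IH _ (lt_of_le_of_ne (card_le_of_le (hM.le.trans hle))
        fun e => (hM.trans_le hle).ne (eq_of_le_of_card_ge (hM.le.trans hle) e.ge)) M rfl _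
        (subset_closure (Set.mem_insert_of_mem _ rfl)) b (subset_closure (Set.mem_insert _ _))).mp ?_)
      rw [conj_pow, ← h]
      group
    have h1 := hprod hu
    rw [h, eq_comm, mul_eq_right] at h1
    exact h1
  · intro h
    have hu : ⁅b, a * b⁻¹⁆ ^ p ^ k = 1 := by
      rw [commutatorElement_def]
      exact hT _ _ (by rw [conj_pow, h, mul_one, mul_inv_cancel]) (by rw [inv_pow, h, inv_one])
    rw [hprod hu, h, one_mul]

end Cfsg.Agent.Regular
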